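import Cfsg.Agent.Lib.CharCore.TI
import Cfsg.Agent.Lib.CharCore.Virtual
import Cfsg.Agent.Lib.CharCore.Complete
import Cfsg.Agent.Lib.CharCore.Linear
import Cfsg.Agent.CharDeep.Expand
import Cfsg.Agent.Lib.SmallGroups.SelfCent.Involution

/-!
Exceptional characters of a special subgroup and involution products.

`H` is a subgroup, `D ⊆ H` a set of elements whose fusion happens inside `H`. Class functions of
`H` supported on `D` induce isometrically, and the class algebra evaluated on them gives the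
values at involutions of their constituents.
-/

set_option autoImplicit false

open scoped ComplexConjugate

namespace Cfsg.Agent.H40.Exceptional

universe u

variable {G : Type u} [Group G] [Fintype G]

/-- Fusion in `D` is inside `H`. -/
structure Special (H : Subgroup G) (D : Set G) : Prop where
  le : ∀ x ∈ D, x ∈ H
  fus : ∀ x ∈ D, ∀ g : G, g * x * g⁻¹ ∈ D → g ∈ H
  inv : ∀ x ∈ D, x⁻¹ ∈ D

/-- A function on `H` vanishing outside `D`. -/
def SuppOn (H : Subgroup G) (D : Set G) (α : H → ℂ) : Prop :=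
  ∀ x : H, (x : G) ∉ D → α x = 0

variable {H : Subgroup G} {D : Set G} (hs : Special H D)
include hs

theorem indFun_apply_mem {α : H → ℂ} (hα : Cfsg.IsClassFunction H α) (hαD : SuppOn H D α)
    (t : H) (ht : (t : G) ∈ D) : Cfsg.indFun H α t = α t := by
  classical
  have key : ∀ x : G, Cfsg.extendByZero H α (x⁻¹ * (t : G) * x) =
      if x ∈ H then α t else 0 := by
    intro x
    split_ifs with hx
    · have he : x⁻¹ * (t : G) * x = (((⟨x, hx⟩ : H)⁻¹ * t * ⟨x, hx⟩ : H) : G) := rfl
      rw [he, CharInd.extendByZero_coe]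
      have := hα t (⟨x, hx⟩ : H)⁻¹
      rwa [inv_inv] at this
    · by_cases hm : x⁻¹ * (t : G) * x ∈ H
      · rw [CharInd.extendByZero_mem α hm]
        refine hαD _ fun hD => hx (inv_mem_iff.mp (hs.fus _ ht x⁻¹ ?_))
        rwa [inv_inv]
      · exact CharInd.extendByZero_notMem α hm
  rw [CharInd.indFun_apply]
  simp only [key, ← Finset.sum_filter, Finset.sum_const, nsmul_eq_mul]
  have hc : (Finset.univ.filter (fun x => x ∈ H)).card = Nat.card H := by
    rw [Nat.card_eq_fintype_card, Fintype.card_subtype]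
  rw [hc, inv_mul_cancel_left₀ (Nat.cast_ne_zero.mpr Nat.card_pos.ne')]

theorem classInner_indFun [Fintype H] {α β : H → ℂ} (hαD : SuppOn H D α)
    (hβ : Cfsg.IsClassFunction H β) (hβD : SuppOn H D β) :
    Cfsg.classInner (Cfsg.indFun H α) (Cfsg.indFun H β) = Cfsg.classInner α β := by
  rw [CharInd.classInner_indFun_left _ _ (CharInd.isClassFunction_indFun _ β)]
  unfold Cfsg.classInner
  congr 1
  refine Finset.sum_congr rfl fun x _ => ?_
  by_cases hx : (x : G) ∈ D
  · simp only
    rw [indFun_apply_mem hs hβ hβD x hx]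
  · rw [hαD x hx, zero_mul, zero_mul]

/-- If `α` vanishes on the products in `D` of two conjugates of the involution `u` in `H`, the
class algebra gives a quadratic relation between the values at `u`. -/
theorem sum_coeff_mul_sq_div_eq_zero {α : H → ℂ} (hαD : SuppOn H D α) {u : G} (hu : u * u = 1)
    (hloc : ∀ s t : H, IsConj u (s : G) → IsConj u (t : G) → α (s * t) = 0) :
    ∑ χ : Cfsg.IrrCharacter G, Cfsg.classInner (Cfsg.indFun H α) χ *
      ((χ : G → ℂ) u * (χ : G → ℂ) u / (χ : G → ℂ) 1) = 0 := by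
  classical
  have hterm : ∀ x y : G, BlocksCore.classInd u x * BlocksCore.classInd u y *
      Cfsg.indFun H α (x * y) = 0 := by
    intro x y
    by_cases hx : IsConj u x
    swap
    · rw [show BlocksCore.classInd u x = 0 from
          Set.indicator_of_notMem (show x ∉ {z : G | IsConj u z} from hx) _]; ring
    by_cases hy : IsConj u y
    swap
    · rw [show BlocksCore.classInd u y = 0 from
          Set.indicator_of_notMem (show y ∉ {z : G | IsConj u z} from hy) _]; ring
    rw [CharInd.indFun_apply, Finset.sum_eq_zero, mul_zero, mul_zero]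
    intro g _
    by_contra hne
    have hm : g⁻¹ * (x * y) * g ∈ H := by
      by_contra hm
      exact hne (CharInd.extendByZero_notMem α hm)
    rw [CharInd.extendByZero_mem α hm] at hne
    have hD : g⁻¹ * (x * y) * g ∈ D := by
      by_contra hD
      exact hne (hαD _ hD)
    have hsu : IsConj u (g⁻¹ * x * g) := hx.trans (isConj_iff.mpr ⟨g⁻¹, by group⟩)
    have htu : IsConj u (g⁻¹ * y * g) := hy.trans (isConj_iff.mpr ⟨g⁻¹, by group⟩)
    have hsq : ∀ z : G, IsConj u z → z * z = 1 := by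
      intro z hz
      obtain ⟨c, rfl⟩ := isConj_iff.mp hz
      rw [show c * u * c⁻¹ * (c * u * c⁻¹) = c * (u * u) * c⁻¹ by group, hu, mul_one,
        mul_inv_cancel]
    have hsi := inv_eq_of_mul_eq_one_right (hsq _ hsu)
    have hti := inv_eq_of_mul_eq_one_right (hsq _ htu)
    have hw : g⁻¹ * (x * y) * g = g⁻¹ * x * g * (g⁻¹ * y * g) := by group
    have hsH : g⁻¹ * x * g ∈ H := hs.fus _ hD _ (by
      have e : ∀ s t : G, s * s = 1 → t * t = 1 → s * (s * t) * s⁻¹ = (s * t)⁻¹ := by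
        intro s t hss htt
        rw [← mul_assoc, hss, one_mul, mul_inv_rev, inv_eq_of_mul_eq_one_right hss,
          inv_eq_of_mul_eq_one_right htt]
      rw [hw, e _ _ (hsq _ hsu) (hsq _ htu), ← hw]; exact hs.inv _ hD)
    have htH : g⁻¹ * y * g ∈ H := by
      have h1 := mul_mem (inv_mem hsH) hm
      rwa [hw, inv_mul_cancel_left] at h1
    refine hne ?_
    have h2 := hloc ⟨_, hsH⟩ ⟨_, htH⟩ hsu htu
    exact (congrArg α (Subtype.ext hw)).trans h2
  have hexp : ∀ z : G, Cfsg.indFun H α z =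
      ∑ χ : Cfsg.IrrCharacter G, Cfsg.classInner (Cfsg.indFun H α) χ * (χ : G → ℂ) z := fun z => by
    conv_lhs => rw [CharCore.eq_sum_classInner (CharInd.isClassFunction_indFun H α)]
    simp [Finset.sum_apply, smul_eq_mul]
  have h0 : ∑ x : G, ∑ y : G, BlocksCore.classInd u x * BlocksCore.classInd u y *
      Cfsg.indFun H α (x * y) = 0 :=
    Finset.sum_eq_zero fun x _ => Finset.sum_eq_zero fun y _ => hterm x y
  simp only [hexp, Finset.mul_sum] at h0
  rw [Finset.sum_congr rfl (fun x _ => Finset.sum_comm), Finset.sum_comm] at h0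
  have h1 : ∀ χ : Cfsg.IrrCharacter G,
      ∑ x : G, ∑ y : G, BlocksCore.classInd u x * BlocksCore.classInd u y *
        (Cfsg.classInner (Cfsg.indFun H α) χ * (χ : G → ℂ) (x * y)) =
      ((Nat.card {x : G // IsConj u x} : ℂ) * (Nat.card {x : G // IsConj u x} : ℂ)) *
        (Cfsg.classInner (Cfsg.indFun H α) χ *
          ((χ : G → ℂ) u * (χ : G → ℂ) u / (χ : G → ℂ) 1)) := by
    intro χ
    calc _ = Cfsg.classInner (Cfsg.indFun H α) χ * ∑ x : G, ∑ y : G,
          BlocksCore.classInd u x * BlocksCore.classInd u y * (χ : G → ℂ) (x * y) := by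
            simp only [Finset.mul_sum]
            exact Finset.sum_congr rfl fun x _ => Finset.sum_congr rfl fun y _ => by ring
      _ = _ := by rw [CharDeep.sum_pairs_char]; ring
  rw [Finset.sum_congr rfl fun χ _ => h1 χ, ← Finset.mul_sum] at h0
  exact (mul_eq_zero.mp h0).resolve_left
    (mul_ne_zero (CharDeep.class_card_ne_zero u) (CharDeep.class_card_ne_zero u))

omit hs in
theorem exists_coeff [Fintype H] {α : H → ℂ} (hα : Cfsg.IsGeneralizedCharacter H α) :
    ∃ c : Cfsg.IrrCharacter G → ℤ, ∀ χ : Cfsg.IrrCharacter G,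
      Cfsg.classInner (Cfsg.indFun H α) χ = c χ := by
  choose c hc using fun χ : Cfsg.IrrCharacter G =>
    CharCore.IsGeneralizedCharacter.exists_classInner_eq_intCast hα
      (CharCore.isGeneralized_restrict (CharCore.irr_isGeneralized χ) H)
  exact ⟨c, fun χ => (CharInd.classInner_indFun_left _ _ (CharCore.irr_isClassFunction χ)).trans
    (hc χ)⟩

/-- A norm three virtual character through `1_G` vanishing suitably at the involution `u` has a
kernel containing `u`. -/
theorem exists_kernel_of_norm_three [Fintype H] {α : H → ℂ}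
    (hα : Cfsg.IsGeneralizedCharacter H α) (hαD : SuppOn H D α)
    (h3 : Cfsg.classInner α α = 3) (h1 : Cfsg.classInner α (fun _ => (1 : ℂ)) = 1)
    (hone : α 1 = 0) {u : G} (hu : u * u = 1) (hu0 : ∀ h : H, IsConj u (h : G) → α h = 0)
    (hloc : ∀ s t : H, IsConj u (s : G) → IsConj u (t : G) → α (s * t) = 0) :
    ∃ M : Subgroup G, M.Normal ∧ u ∈ M ∧ ∀ m : H, (m : G) ∈ D → (m : G) ∈ M → α m = 0 := by
  classical
  have hαc := CharCore.IsGeneralizedCharacter.isClassFunction hα
  obtain ⟨c, hc⟩ := exists_coeff hα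
  set triv : Cfsg.IrrCharacter G := ⟨1, CharCore.isIrrCharacter_one⟩
  have hct : c triv = 1 := by
    have h : Cfsg.classInner (Cfsg.indFun H α) (triv : G → ℂ) = 1 := by
      rw [CharInd.classInner_indFun_left _ _ (CharCore.irr_isClassFunction triv)]
      exact h1
    rw [hc triv] at h
    exact_mod_cast h
  have hexp : ∀ z : G, Cfsg.indFun H α z = ∑ χ : Cfsg.IrrCharacter G, (c χ : ℂ) * (χ : G → ℂ) z :=
    fun z => by
      conv_lhs => rw [CharCore.eq_sum_classInner (CharInd.isClassFunction_indFun H α)]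
      simp [Finset.sum_apply, smul_eq_mul, hc]
  have hnorm : ∑ χ : Cfsg.IrrCharacter G, c χ * c χ = 3 := by
    have h := CharCore.classInner_eq_sum (CharInd.isClassFunction_indFun H α)
      (CharInd.isClassFunction_indFun H α)
    rw [classInner_indFun hs hαD hαc hαD, h3] at h
    simp only [hc, map_intCast] at h
    exact_mod_cast h.symm
  set S := (Finset.univ.erase triv).filter fun χ => c χ ≠ 0
  have hSsum : ∑ χ ∈ S, c χ * c χ = 2 := by
    rw [Finset.sum_filter_of_ne (p := fun χ => c χ ≠ 0)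
      (fun χ _ hne h0 => hne (by rw [h0, mul_zero]))]
    have := Finset.sum_erase_add Finset.univ (fun χ => c χ * c χ) (Finset.mem_univ triv)
    simp only [hnorm, hct, mul_one] at this
    linarith
  have hS1 : ∀ χ ∈ S, c χ * c χ = 1 := by
    intro χ hχ
    have hne := (Finset.mem_filter.mp hχ).2
    have hle := Finset.single_le_sum (f := fun χ => c χ * c χ)
      (fun y _ => mul_self_nonneg (c y)) hχ
    simp only [hSsum] at hle
    have hlo : -1 ≤ c χ := by nlinarith
    have hhi : c χ ≤ 1 := by nlinarith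
    interval_cases h : c χ <;> simp_all
  have hScard : S.card = 2 := by
    have := hSsum
    rw [Finset.sum_congr rfl hS1, Finset.sum_const, nsmul_eq_mul, mul_one] at this
    exact_mod_cast this
  obtain ⟨χ, ψ, hne, hS⟩ := Finset.card_eq_two.mp hScard
  have hsum : ∀ f : Cfsg.IrrCharacter G → ℂ,
      ∑ φ : Cfsg.IrrCharacter G, (c φ : ℂ) * f φ = f triv + (c χ : ℂ) * f χ + (c ψ : ℂ) * f ψ := by
    intro f
    rw [← Finset.sum_erase_add _ _ (Finset.mem_univ triv), hct, Int.cast_one, one_mul,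
      ← Finset.sum_filter_of_ne (p := fun φ => c φ ≠ 0)
        (fun φ _ h0 hc0 => h0 (by rw [hc0, Int.cast_zero, zero_mul]))]
    show ∑ φ ∈ S, _ + _ = _
    rw [hS, Finset.sum_pair hne]; ring
  have hval1 : Cfsg.indFun H α 1 = 0 := by rw [CharInd.indFun_apply_one, hone, mul_zero]
  have hvalu : Cfsg.indFun H α u = 0 := by
    rw [CharInd.indFun_apply, Finset.sum_eq_zero, mul_zero]
    intro g _
    by_cases hm : g⁻¹ * u * g ∈ H
    · rw [CharInd.extendByZero_mem α hm]
      exact hu0 ⟨_, hm⟩ (isConj_iff.mpr ⟨g⁻¹, by group⟩)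
    · exact CharInd.extendByZero_notMem α hm
  have hq := sum_coeff_mul_sq_div_eq_zero hs hαD hu hloc
  simp only [hc] at hq
  rw [hsum] at hq
  have e1 := (hexp 1).symm.trans hval1
  have eu := (hexp u).symm.trans hvalu
  rw [hsum] at e1 eu
  simp only [triv, Pi.one_apply, mul_one, div_one] at e1 eu hq
  set a := (χ : G → ℂ) 1
  set b := (ψ : G → ℂ) 1
  set x := (χ : G → ℂ) u
  set y := (ψ : G → ℂ) u
  have ha : a ≠ 0 := CharCore.irr_apply_one_ne_zero χ
  have hb : b ≠ 0 := CharCore.irr_apply_one_ne_zero ψ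
  have hχS : χ ∈ S := by rw [hS]; simp
  have hψS : ψ ∈ S := by rw [hS]; simp
  have hε : (c χ : ℂ) * (c χ : ℂ) = 1 := by exact_mod_cast hS1 χ hχS
  have hδ : (c ψ : ℂ) * (c ψ : ℂ) = 1 := by exact_mod_cast hS1 ψ hψS
  field_simp at hq
  have key : (((c χ : ℂ) * x) - (c χ : ℂ) * a) ^ 2 = 0 := by
    have hB : (c ψ : ℂ) * b = -1 - (c χ : ℂ) * a := by linear_combination e1
    have hV : (c ψ : ℂ) * y = -1 - (c χ : ℂ) * x := by linear_combination eu
    have hq' : ((c χ : ℂ) * a) * ((c ψ : ℂ) * b) + ((c χ : ℂ) * x) ^ 2 * ((c ψ : ℂ) * b) +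
        ((c ψ : ℂ) * y) ^ 2 * ((c χ : ℂ) * a) = 0 := by
      linear_combination ((c χ : ℂ) * (c ψ : ℂ)) * hq
    rw [hB, hV] at hq'
    linear_combination -1 * hq'
  have hx : x = a := by
    have h2 : (c χ : ℂ) * (x - a) = 0 := by
      have := pow_eq_zero_iff (two_ne_zero) |>.mp key
      linear_combination this
    have hcne : (c χ : ℂ) ≠ 0 := fun h0 => by rw [h0, mul_zero] at hε; exact zero_ne_one hε
    exact sub_eq_zero.mp ((mul_eq_zero.mp h2).resolve_left hcne)
  have hy : y = b := by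
    have hcne : (c ψ : ℂ) ≠ 0 := fun h0 => by rw [h0, mul_zero] at hδ; exact zero_ne_one hδ
    refine mul_left_cancel₀ hcne ?_
    linear_combination eu - e1 - (c χ : ℂ) * hx
  refine ⟨CharCore.charKernel (CharCore.irr_isCharacter χ) ⊓
    CharCore.charKernel (CharCore.irr_isCharacter ψ), inferInstance, ⟨hx, hy⟩, fun m hmD hm => ?_⟩
  obtain ⟨hmχ, hmψ⟩ := hm
  rw [← indFun_apply_mem hs hαc hαD m hmD, hexp, hsum]
  rw [show (χ : G → ℂ) (m : G) = a from hmχ, show (ψ : G → ℂ) (m : G) = b from hmψ]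
  simp only [triv, Pi.one_apply]
  exact e1

/-- Two elements of order six read off by orthogonal class functions of norm six have
non-conjugate involution parts. -/
theorem not_isConj_of_norm_six [Fintype H] {δ δ' : H → ℂ}
    (hδ : Cfsg.IsGeneralizedCharacter H δ) (hδ' : Cfsg.IsGeneralizedCharacter H δ')
    (hδD : SuppOn H D δ) (hδ'D : SuppOn H D δ')
    (h6 : Cfsg.classInner δ δ = 6) (h6' : Cfsg.classInner δ' δ' = 6)
    (h0 : Cfsg.classInner δ δ' = 0) {g g' : G} (hg : g ^ 6 = 1) (hg' : g' ^ 6 = 1)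
    (hgr : IsConj g g⁻¹) (hgr' : IsConj g' g'⁻¹)
    (hv : ∀ χ : Cfsg.IrrCharacter G,
      Cfsg.classInner δ (fun h : H => (χ : G → ℂ) h) = (χ : G → ℂ) g)
    (hv' : ∀ χ : Cfsg.IrrCharacter G,
      Cfsg.classInner δ' (fun h : H => (χ : G → ℂ) h) = (χ : G → ℂ) g') :
    ¬ IsConj (g ^ 3) (g' ^ 3) := by
  classical
  intro hconj
  haveI : Fact (Nat.Prime 3) := ⟨Nat.prime_three⟩
  obtain ⟨c, hc⟩ := exists_coeff hδ
  obtain ⟨c', hc'⟩ := exists_coeff hδ'
  have hval : ∀ χ : Cfsg.IrrCharacter G, (χ : G → ℂ) g = c χ := fun χ =>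
    ((hv χ).symm.trans (CharInd.classInner_indFun_left _ _
      (CharCore.irr_isClassFunction χ)).symm).trans (hc χ)
  have hval' : ∀ χ : Cfsg.IrrCharacter G, (χ : G → ℂ) g' = c' χ := fun χ =>
    ((hv' χ).symm.trans (CharInd.classInner_indFun_left _ _
      (CharCore.irr_isClassFunction χ)).symm).trans (hc' χ)
  have hcong : ∀ (χ : Cfsg.IrrCharacter G) {g : G}, g ^ 6 = 1 → IsConj g g⁻¹ → ∀ {k : ℤ},
      (χ : G → ℂ) g = k → ∃ N : ℤ, (χ : G → ℂ) (g ^ 3) = 3 * N - 2 * k := by
    intro χ g hg hgr k hk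
    obtain ⟨N, hN⟩ := SmallGroups.SelfCent.exists_sum_odd_pow_eq (p := 3) χ
      (show g ^ (2 * 3) = 1 from hg)
    obtain ⟨w, hw⟩ := isConj_iff.mp hgr
    have h5 : g ^ (2 * 2 + 1) = g⁻¹ := eq_inv_of_mul_eq_one_left (by rw [← pow_succ]; exact hg)
    have hinv : (χ : G → ℂ) g⁻¹ = k := by rw [← hw, CharCore.irr_isClassFunction χ g w, hk]
    rw [Finset.sum_range_succ, Finset.sum_range_succ, Finset.sum_range_one, h5, hinv,
      mul_zero, zero_add, pow_one, hk] at hN
    refine ⟨N, ?_⟩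
    push_cast at hN
    linear_combination hN
  have hdvd : ∀ χ, (3 : ℤ) ∣ c χ - c' χ := by
    intro χ
    obtain ⟨N, hN⟩ := hcong χ hg hgr (hval χ)
    obtain ⟨N', hN'⟩ := hcong χ hg' hgr' (hval' χ)
    obtain ⟨w, hw⟩ := isConj_iff.mp hconj
    rw [← hw, CharCore.irr_isClassFunction χ (g ^ 3) w, hN] at hN'
    have : 3 * N - 2 * c χ = 3 * N' - 2 * c' χ := by exact_mod_cast hN'
    exact ⟨c χ - c' χ - (N - N'), by linarith⟩
  have hpar : ∀ {α β : H → ℂ} {a b : Cfsg.IrrCharacter G → ℤ}, Cfsg.IsGeneralizedCharacter H β →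
      SuppOn H D α → SuppOn H D β → (∀ χ : Cfsg.IrrCharacter G, Cfsg.classInner (Cfsg.indFun H α) χ = a χ) →
      (∀ χ : Cfsg.IrrCharacter G, Cfsg.classInner (Cfsg.indFun H β) χ = b χ) →
      ((∑ χ, a χ * b χ : ℤ) : ℂ) = Cfsg.classInner α β := by
    intro α β a b hβ hαD hβD ha hb
    rw [← classInner_indFun hs hαD (CharCore.IsGeneralizedCharacter.isClassFunction hβ) hβD,
      CharCore.classInner_eq_sum (CharInd.isClassFunction_indFun H α)
      (CharInd.isClassFunction_indFun H β)]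
    simp only [ha, hb, map_intCast]
    push_cast
    rfl
  have e6 : ∑ χ, c χ * c χ = 6 := by exact_mod_cast (hpar hδ hδD hδD hc hc).trans h6
  have e6' : ∑ χ, c' χ * c' χ = 6 := by exact_mod_cast (hpar hδ' hδ'D hδ'D hc' hc').trans h6'
  have e0 : ∑ χ, c χ * c' χ = 0 := by exact_mod_cast (hpar hδ' hδD hδ'D hc hc').trans h0
  have h12 : ∑ χ, (c χ - c' χ) * (c χ - c' χ) = 12 := by
    have : ∀ χ, (c χ - c' χ) * (c χ - c' χ) = c χ * c χ - 2 * (c χ * c' χ) + c' χ * c' χ :=
      fun χ => by ring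
    rw [Finset.sum_congr rfl fun χ _ => this χ, Finset.sum_add_distrib, Finset.sum_sub_distrib,
      ← Finset.mul_sum, e6, e6', e0]
    norm_num
  have h9 : (9 : ℤ) ∣ ∑ χ, (c χ - c' χ) * (c χ - c' χ) :=
    Finset.dvd_sum fun χ _ => by
      have := mul_dvd_mul (hdvd χ) (hdvd χ)
      simpa using this
  rw [h12] at h9
  norm_num at h9

end Cfsg.Agent.H40.Exceptional
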