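import Cfsg.Agent.H40.Exceptional.CubeModel
import Cfsg.Agent.Lib.CharCore.Virtual
import Cfsg.Agent.Lib.CharCore.Linear
import Cfsg.Agent.PermB.CentralizerAlgebra

/-!
The functions of the model are generalized characters; isomorphism with the permutation group.
-/

set_option autoImplicit false

namespace Cfsg.Agent.H40.Exceptional.Cube

open scoped ComplexConjugate

theorem isGeneralized_sign :
    Cfsg.IsGeneralizedCharacter (Equiv.Perm (Fin 3))
      (fun p => (((Equiv.Perm.sign p : ℤˣ) : ℤ) : ℂ)) :=
  CharCore.irr_isGeneralized ⟨_, CharCore.isIrrCharacter_hom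
    ((Units.map (Int.castRingHom ℂ).toMonoidHom).comp Equiv.Perm.sign)⟩

theorem isGeneralized_fix :
    Cfsg.IsGeneralizedCharacter (Equiv.Perm (Fin 3))
      (fun p => ((Fintype.card {x : Fin 3 // p x = x} : ℕ) : ℂ)) := by
  refine CharCore.IsCharacter.isGeneralized ?_
  convert PermB.isCharacter_permChar (Equiv.Perm (Fin 3)) (Fin 3) using 1
  funext p
  rw [PermB.permChar, ← Nat.card_eq_fintype_card]
  rfl

/-- The `i`th coordinate as a permutation of three points. -/
def coord (i : Fin 3) : K →* Equiv.Perm (Fin 3) :=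
  (perm.comp (Pi.evalMonoidHom (fun _ : Fin 3 => S) i)).comp K.subtype

theorem isGeneralized_sg (i : Fin 3) :
    Cfsg.IsGeneralizedCharacter K (fun k => (sg (k.1 i) : ℂ)) := by
  convert CharCore.isGeneralized_comp isGeneralized_sign (coord i) using 1
  funext k
  exact congrArg (fun z : ℤ => (z : ℂ)) (sg_eq (k.1 i))

theorem isGeneralized_alpha (i : Fin 3) :
    Cfsg.IsGeneralizedCharacter K (fun k => (α i k : ℂ)) := by
  convert CharCore.isGeneralized_sub
    (CharCore.isGeneralized_add
      (CharCore.isGeneralized_intCast_smul CharCore.isGeneralized_one 2)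
      (CharCore.isGeneralized_comp isGeneralized_sign (coord i)))
    (CharCore.isGeneralized_comp isGeneralized_fix (coord i)) using 1
  funext k
  simp only [α, a_eq, Pi.sub_apply, Pi.add_apply, Pi.smul_apply, Pi.one_apply, smul_eq_mul, mul_one]
  push_cast
  rfl

theorem isGeneralized_delta (i : Fin 3) :
    Cfsg.IsGeneralizedCharacter K (fun k => (δ i k : ℂ)) := by
  convert CharCore.isGeneralized_mul (isGeneralized_alpha i)
    (CharCore.isGeneralized_sub CharCore.isGeneralized_one (isGeneralized_sg (i + 1))) using 1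
  funext k
  simp [δ, α]

theorem toPerm_injective : Function.Injective toPerm := by
  intro x y h
  refine Subtype.ext (funext fun i => perm_injective ?_)
  have h1 := Equiv.Perm.sigmaCongrRightHom_injective
    (((Equiv.sigmaEquivProd (Fin 3) (Fin 3)).trans finProdFinEquiv).permCongrHom.injective h)
  exact congrFun h1 i

theorem toPerm_range :
    toPerm.range = Subgroup.closure ({Equiv.swap (0 : Fin 9) 1 * Equiv.swap 1 2,
      Equiv.swap (3 : Fin 9) 4 * Equiv.swap 4 5, Equiv.swap (6 : Fin 9) 7 * Equiv.swap 7 8,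
      Equiv.swap (0 : Fin 9) 1 * Equiv.swap 3 4, Equiv.swap (0 : Fin 9) 1 * Equiv.swap 6 7} :
        Set (Equiv.Perm (Fin 9))) := by
  obtain ⟨h0, h1, h2, h3, h4⟩ := toPerm_gens
  refine le_antisymm ?_ ((Subgroup.closure_le _).mpr ?_)
  · rintro _ ⟨k, rfl⟩
    obtain ⟨x, y, z, v, w, rfl⟩ := gen k
    simp only [map_mul, map_pow, h0, h1, h2, h3, h4]
    exact mul_mem (mul_mem (mul_mem (mul_mem
      (pow_mem (Subgroup.subset_closure (by simp)) _)
      (pow_mem (Subgroup.subset_closure (by simp)) _))
      (pow_mem (Subgroup.subset_closure (by simp)) _))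
      (pow_mem (Subgroup.subset_closure (by simp)) _))
      (pow_mem (Subgroup.subset_closure (by simp)) _)
  · simp only [Set.insert_subset_iff, Set.singleton_subset_iff, SetLike.mem_coe]
    exact ⟨⟨_, h0⟩, ⟨_, h1⟩, ⟨_, h2⟩, ⟨_, h3⟩, ⟨_, h4⟩⟩

end Cfsg.Agent.H40.Exceptional.Cube
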