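import Cfsg.Agent.H40.Exceptional.Basic
import Cfsg.Agent.H40.Exceptional.CubeChars
import Cfsg.Agent.Lib.Coprime.Generation

/-!
A strongly embedded `3³ : 2²` is the whole group.
-/

set_option autoImplicit false

open scoped ComplexConjugate

namespace Cfsg.Agent.H40.Exceptional.Cube

universe v

variable {G : Type v} [Group G]

theorem classInner_model [Fintype G] {H : Subgroup G} [Fintype H] (ψ : K ≃* H) (f g : K → ℤ) :
    Cfsg.classInner (fun h : H => (f (ψ.symm h) : ℂ)) (fun h : H => (g (ψ.symm h) : ℂ)) =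
      ((∑ k : K, f k * g k : ℤ) : ℂ) / 108 := by
  unfold Cfsg.classInner
  have hcard : Nat.card H = 108 := by
    rw [← Nat.card_congr ψ.toEquiv, Nat.card_eq_fintype_card, card_K]
  rw [hcard, ← Equiv.sum_comp ψ.toEquiv]
  simp only [MulEquiv.toEquiv_eq_coe, MulEquiv.coe_toEquiv, MulEquiv.symm_apply_apply, map_intCast]
  push_cast
  ring

theorem eq_top [Finite G] (H : Subgroup G) (ψ : K ≃* H)
    (T : Subgroup G) (hTH : T ≤ H) (hT : Nat.card T = 27)
    (hN : Subgroup.normalizer (T : Set G) = H)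
    (hC : ∀ t ∈ T, t ≠ 1 → Subgroup.centralizer ({t} : Set G) ≤ H) : H = ⊤ := by
  classical
  haveI := Fintype.ofFinite G
  haveI : Fintype H := Fintype.ofFinite H
  haveI h3f : Fact (Nat.Prime 3) := ⟨Nat.prime_three⟩
  let f : K →* G := H.subtype.comp ψ.toMonoidHom
  have hfi : Function.Injective f := fun a b h => ψ.injective (Subtype.ext h)
  have hfH : ∀ k, f k ∈ H := fun k => (ψ k).2
  have hfs : ∀ x : G, x ∈ H → ∃ k, f k = x := fun x hx => ⟨ψ.symm ⟨x, hx⟩, by simp [f]⟩
  have hcardH : Nat.card H = 108 := by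
    rw [← Nat.card_congr ψ.toEquiv, Nat.card_eq_fintype_card, card_K]
  -- `T` is the set of elements of `H` of order dividing three
  have hTsub : ∀ x ∈ T, ∃ k : K, f k = x ∧ k ^ 3 = 1 := by
    intro x hx
    obtain ⟨k, rfl⟩ := hfs x (hTH hx)
    refine ⟨k, rfl, three_iff k (hfi ?_)⟩
    rw [map_pow, map_one]
    have := pow_card_eq_one' (x := (⟨f k, hx⟩ : T))
    rw [hT] at this
    exact congrArg Subtype.val this
  have hTmem : ∀ k : K, k ^ 3 = 1 → f k ∈ T := by
    intro k hk
    let j : T → {k : K // k ^ 3 = 1} := fun x =>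
      ⟨(hTsub x x.2).choose, (hTsub x x.2).choose_spec.2⟩
    have hj : Function.Injective j := fun x y h => by
      have e : (hTsub x x.2).choose = (hTsub y y.2).choose := congrArg Subtype.val h
      exact Subtype.ext ((hTsub x x.2).choose_spec.1.symm.trans
        ((congrArg f e).trans (hTsub y y.2).choose_spec.1))
    haveI := Fintype.ofFinite T
    have hb : Function.Bijective j := (Fintype.bijective_iff_injective_and_card j).mpr
      ⟨hj, by rw [card_cube, ← Nat.card_eq_fintype_card, hT]⟩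
    obtain ⟨x, hx⟩ := hb.2 ⟨k, hk⟩
    have h1 : (hTsub x x.2).choose = k := congrArg Subtype.val hx
    rw [← h1, (hTsub x x.2).choose_spec.1]
    exact x.2
  have hTcomm : ∀ x ∈ T, ∀ y ∈ T, x * y = y * x := by
    intro x hx y hy
    obtain ⟨a, rfl, ha⟩ := hTsub x hx
    obtain ⟨b, rfl, hb⟩ := hTsub y hy
    rw [← map_mul, ← map_mul]
    congr 1
    have : ∀ a : {k : K // k ^ 3 = 1}, ∀ b : {k : K // k ^ 3 = 1}, a.1 * b.1 = b.1 * a.1 := by
      decide +kernel
    exact this ⟨a, ha⟩ ⟨b, hb⟩
  have hnorm : ∀ g : G, (∀ x ∈ T, g * x * g⁻¹ ∈ H) → g ∈ H := by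
    intro g hg
    rw [← hN, Subgroup.mem_normalizer_iff]
    have hsub : ∀ x ∈ T, g * x * g⁻¹ ∈ T := by
      intro x hx
      obtain ⟨k, hk⟩ := hfs _ (hg x hx)
      rw [← hk]
      refine hTmem k (hfi ?_)
      obtain ⟨a, rfl, ha⟩ := hTsub x hx
      rw [map_pow, hk, map_one, conj_pow, ← map_pow, ha, map_one, mul_one, mul_inv_cancel]
    have hmap : T.map (MulAut.conj g).toMonoidHom = T := by
      refine Subgroup.eq_of_le_of_card_ge ?_ ?_
      · rintro _ ⟨x, hx, rfl⟩
        simpa using hsub x hx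
      · rw [Subgroup.card_map_of_injective (MulAut.conj g).injective]
    intro x
    refine ⟨fun hx => hsub x hx, fun hx => ?_⟩
    rw [← hmap] at hx
    obtain ⟨y, hy, he⟩ := hx
    have : y = x := (MulAut.conj g).injective (by simpa using he)
    exact this ▸ hy
  set D : Set G := {x | ∃ k : K, f k = x ∧ k ^ 2 ≠ 1}
  have hs : Special H D := by
    refine ⟨?_, ?_, ?_⟩
    · rintro _ ⟨k, rfl, -⟩; exact hfH k
    · rintro _ ⟨k, rfl, hk⟩ g ⟨l, hl, hl2⟩
      have ht' : f (l ^ 2) ∈ T := hTmem _ (sq_cube l)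
      have hne : f (l ^ 2) ≠ 1 := fun h => hl2 (hfi (h.trans (map_one f).symm))
      refine hnorm g fun x hx => hC _ ht' hne ?_
      rw [Subgroup.mem_centralizer_singleton_iff, map_pow, hl, conj_pow, ← map_pow]
      have hc := hTcomm x hx _ (hTmem _ (sq_cube k))
      calc g * x * g⁻¹ * (g * f (k ^ 2) * g⁻¹) = g * (x * f (k ^ 2)) * g⁻¹ := by group
        _ = g * (f (k ^ 2) * x) * g⁻¹ := by rw [hc]
        _ = g * f (k ^ 2) * g⁻¹ * (g * x * g⁻¹) := by group
    · rintro _ ⟨k, rfl, hk⟩
      exact ⟨k⁻¹, map_inv f k, by rw [inv_pow, ne_eq, inv_eq_one]; exact hk⟩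
  have hsupp : ∀ φ : K → ℤ, (∀ k, k ^ 2 = 1 → φ k = 0) →
      SuppOn H D (fun h => (φ (ψ.symm h) : ℂ)) := by
    intro φ hφ h hh
    have : ψ.symm h ^ 2 = 1 := by
      by_contra hc
      exact hh ⟨ψ.symm h, by simp [f], hc⟩
    show (φ (ψ.symm h) : ℂ) = 0
    rw [hφ _ this, Int.cast_zero]
  have hga : ∀ i, Cfsg.IsGeneralizedCharacter H (fun h : H => (α i (ψ.symm h) : ℂ)) :=
    fun i => CharCore.isGeneralized_comp (isGeneralized_alpha i) ψ.symm.toMonoidHom
  have hgd : ∀ i, Cfsg.IsGeneralizedCharacter H (fun h : H => (δ i (ψ.symm h) : ℂ)) :=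
    fun i => CharCore.isGeneralized_comp (isGeneralized_delta i) ψ.symm.toMonoidHom
  -- the three involution classes do not fuse
  have hnc : ∀ i j, IsConj (f (u i)) (f (u j)) → i = j := by
    intro i j hij
    by_contra hne
    have hv : ∀ (i : Fin 3) (χ : Cfsg.IrrCharacter G),
        Cfsg.classInner (fun h : H => (δ i (ψ.symm h) : ℂ)) (fun h : H => (χ : G → ℂ) h) =
          (χ : G → ℂ) (f (e i * u i)) := by
      intro i χ
      unfold Cfsg.classInner
      rw [hcardH, ← Equiv.sum_comp ψ.toEquiv]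
      simp only [MulEquiv.toEquiv_eq_coe, MulEquiv.coe_toEquiv, MulEquiv.symm_apply_apply]
      have hpt : ∀ k : K, (δ i k : ℂ) * conj ((χ : G → ℂ) (ψ k)) =
          (δ i k : ℂ) * conj ((χ : G → ℂ) (f (e i * u i))) := by
        intro k
        by_cases hk : δ i k = 0
        · simp [hk]
        · obtain ⟨g, hg⟩ := delta_class i k hk
          rw [show ((ψ k : H) : G) = f k from rfl, ← hg, map_mul f (g * _), map_mul f g, map_inv,
            CharCore.irr_isClassFunction χ]
      rw [Finset.sum_congr rfl fun k _ => hpt k, ← Finset.sum_mul,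
        ← CharCore.irr_apply_inv χ, ← Int.cast_sum, delta_sum]
      obtain ⟨g, hg⟩ := c_real i
      rw [← map_inv, ← hg, map_mul f (g * _), map_mul f g, map_inv,
        CharCore.irr_isClassFunction χ]
      push_cast
      ring
    have hreal : ∀ i, IsConj (f (e i * u i)) (f (e i * u i))⁻¹ := fun i => by
      obtain ⟨g, hg⟩ := c_real i
      exact isConj_iff.mpr ⟨f g, by rw [← map_inv, ← map_inv, ← map_mul, ← map_mul, hg]⟩
    have h6 : ∀ i, f (e i * u i) ^ 6 = 1 := fun i => by rw [← map_pow, (c_pow i).1, map_one]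
    refine not_isConj_of_norm_six hs (hgd i) (hgd j) (hsupp _ (delta_supp i))
      (hsupp _ (delta_supp j)) ?_ ?_ ?_ (h6 i) (h6 j) (hreal i) (hreal j) (hv i) (hv j) ?_
    · rw [classInner_model ψ, delta_norm, if_pos rfl]; norm_num
    · rw [classInner_model ψ, delta_norm, if_pos rfl]; norm_num
    · rw [classInner_model ψ, delta_norm, if_neg hne]; norm_num
    · rw [← map_pow, (c_pow i).2, ← map_pow, (c_pow j).2]; exact hij
  have hu0 : ∀ i (h : H), IsConj (f (u i)) (h : G) → (ψ.symm h).1 i = 1 := by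
    intro i h hh
    obtain ⟨c, hc⟩ := isConj_iff.mp hh
    obtain ⟨k, rfl⟩ := ψ.surjective h
    rw [MulEquiv.symm_apply_apply]
    have hk2 : k * k = 1 := hfi (by
      show f (k * k) = f 1
      rw [map_mul, map_one, show f k = c * f (u i) * c⁻¹ from hc.symm,
        show c * f (u i) * c⁻¹ * (c * f (u i) * c⁻¹) = c * (f (u i) * f (u i)) * c⁻¹ by group,
        ← map_mul, u_sq, map_one, mul_one, mul_inv_cancel])
    have hk1 : k ≠ 1 := fun h1 => by
      refine u_ne i (hfi ?_)
      rw [h1, map_one, OneMemClass.coe_one] at hc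
      rw [map_one]
      exact mul_eq_left.mp (mul_inv_eq_one.mp hc)
    obtain ⟨j, g, hg⟩ := invol_class k hk2 hk1
    have : i = j := hnc i j (hh.trans (isConj_iff.mpr ⟨(f g)⁻¹, by
      rw [inv_inv]
      show (f g)⁻¹ * f k * f g = f (u j)
      rw [← hg, map_mul, map_mul, map_inv]; group⟩))
    subst this
    rw [← hg]
    show (g.1 i) * (u i).1 i * (g.1 i)⁻¹ = 1
    rw [u_comp, mul_one, mul_inv_cancel]
  -- the three normal subgroups
  have hker : ∀ i, ∃ M : Subgroup G, M.Normal ∧ f (u i) ∈ M ∧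
      ∀ k : K, k ^ 3 = 1 → f k ∈ M → k.1 i = 1 := by
    intro i
    obtain ⟨M, hM, huM, hz⟩ := exists_kernel_of_norm_three hs (hga i) (hsupp _ (alpha_supp i))
      (by
        show Cfsg.classInner (fun h : H => (α i (ψ.symm h) : ℂ))
          (fun h : H => (α i (ψ.symm h) : ℂ)) = 3
        rw [classInner_model ψ, alpha_norm]; norm_num)
      (by
        show Cfsg.classInner (fun h : H => (α i (ψ.symm h) : ℂ)) (fun _ => (1 : ℂ)) = 1
        have h := classInner_model ψ (α i) (fun _ => 1)
        simp only [Int.cast_one, mul_one] at h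
        rw [h, alpha_sum]; norm_num)
      (by simp [alpha_one])
      (u := f (u i)) (by rw [← map_mul, u_sq, map_one])
      (fun h hh => by simp [alpha_eq i _ (hu0 i h hh)])
      (fun s t hss htt => by
        have : (ψ.symm (s * t)).1 i = 1 := by
          rw [map_mul]
          show (ψ.symm s).1 i * (ψ.symm t).1 i = 1
          rw [hu0 i s hss, hu0 i t htt, one_mul]
        show (α i (ψ.symm (s * t)) : ℂ) = 0
        rw [alpha_eq i _ this, Int.cast_zero])
    refine ⟨M, hM, huM, fun k hk hkM => ?_⟩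
    by_cases hk2 : k ^ 2 = 1
    · have : k = 1 := by rw [← hk, pow_succ, hk2, one_mul]
      rw [this]; rfl
    have := hz (ψ k) ⟨k, rfl, hk2⟩ hkM
    simp only [MulEquiv.symm_apply_apply] at this
    exact alpha_cube i k hk (by exact_mod_cast this)
  choose M hMn huM hMT using hker
  haveI := hMn
  have heM : ∀ i j, i ≠ j → f (e j) ∈ M i := by
    intro i j hij
    have h1 : f (u i * e j * (u i)⁻¹ * (e j)⁻¹) ∈ M i := by
      simp only [map_mul, map_inv]
      rw [mul_assoc (f (u i)) (f (e j)), mul_assoc (f (u i))]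
      exact mul_mem (huM i) ((hMn i).conj_mem _ (inv_mem (huM i)) _)
    rwa [comm_eu i j hij] at h1
  -- `T` is a Sylow subgroup
  have hTp : IsPGroup 3 T := IsPGroup.of_card (n := 3) (by rw [hT]; norm_num)
  obtain ⟨P, hTP⟩ := hTp.exists_le_sylow
  have hPT : (P : Subgroup G) = T := by
    refine le_antisymm ?_ hTP
    by_contra hle
    have hlt : T < P := lt_of_le_not_ge hTP hle
    haveI : Group.IsNilpotent P := P.2.isNilpotent
    have hnc := normalizerCondition_of_isNilpotent (G := P) (T.subgroupOf P)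
      (lt_top_iff_ne_top.mpr fun h => hle (Subgroup.subgroupOf_eq_top.mp h))
    obtain ⟨x, hx, hxT⟩ := SetLike.exists_of_lt hnc
    have hxH : (x : G) ∈ H := hnorm _ fun y hy => hTH (by
      have := (Subgroup.mem_normalizer_iff.mp hx ⟨y, hTP hy⟩).mp hy
      simpa [Subgroup.mem_subgroupOf] using this)
    obtain ⟨k, hk⟩ := hfs _ hxH
    obtain ⟨m, hm⟩ := P.2 x
    have hk3 : k ^ 3 = 1 := by
      have h1 : orderOf k ∣ 3 ^ m := by
        apply orderOf_dvd_of_pow_eq_one
        apply hfi
        rw [map_pow, hk, map_one]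
        exact_mod_cast congrArg Subtype.val hm
      have h2 : orderOf k ∣ 108 := card_K ▸ orderOf_dvd_card
      have h27 : orderOf k ∣ 27 := by
        obtain ⟨r, -, hr⟩ := (Nat.dvd_prime_pow Nat.prime_three).mp h1
        rw [hr] at h2 ⊢
        have hr3 : r ≤ 3 := by
          by_contra hc
          exact absurd ((pow_dvd_pow 3 (by omega : 4 ≤ r)).trans h2) (by norm_num)
        exact (pow_dvd_pow 3 hr3)
      exact three_iff k (orderOf_dvd_iff_pow_eq_one.mp h27)
    exact hxT (show (x : G) ∈ T from hk ▸ hTmem k hk3)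
  -- each `M i` has index at most six
  have hTi : ¬ 3 ∣ T.index := hPT ▸ P.not_dvd_index
  have hfrange : f.range = H := by
    ext x
    exact ⟨fun ⟨k, hk⟩ => hk ▸ hfH k, fun hx => hfs x hx⟩
  have hidx : ∀ i, (M i).index ≤ 6 := by
    intro i
    have hne1 : i ≠ i + 1 := by revert i; decide
    have hne2 : i ≠ i + 2 := by revert i; decide
    have hQi : ¬ 3 ∣ (T.subgroupOf (M i)).index := fun h => hTi (h.trans (by
      have a1 := Subgroup.relIndex_mul_relIndex (⊥ : Subgroup G) (M i) (T ⊔ M i) bot_le le_sup_right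
      rw [Subgroup.relIndex_sup_right] at a1
      have a2 := Subgroup.relIndex_mul_relIndex (⊥ : Subgroup G) T (T ⊔ M i) bot_le le_sup_left
      have a3 := Subgroup.relIndex_mul_relIndex (⊥ : Subgroup G) (T ⊓ M i) (M i) bot_le inf_le_right
      rw [Subgroup.inf_relIndex_right] at a3
      have a4 := Subgroup.relIndex_mul_relIndex (⊥ : Subgroup G) (T ⊓ M i) T bot_le inf_le_left
      rw [Subgroup.inf_relIndex_left] at a4
      simp only [Subgroup.relIndex_bot_left] at a1 a2 a3 a4
      have he : T.relIndex (M i) = T.relIndex (T ⊔ M i) := by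
        have hp : 0 < Nat.card T := Nat.card_pos
        refine Nat.eq_of_mul_eq_mul_left hp ?_
        rw [a2, ← a1, ← a3, ← a4]; ring
      rw [show (T.subgroupOf (M i)).index = T.relIndex (M i) from rfl, he]
      exact dvd_trans (dvd_mul_right _ _)
        (dvd_of_eq (Subgroup.relIndex_mul_index (H := T) (K := T ⊔ M i) le_sup_left))))
    let R := (hTp.comap_subtype : IsPGroup 3 (T.subgroupOf (M i))).toSylow hQi
    have hRQ : (R : Subgroup (M i)).map (M i).subtype = T ⊓ M i :=
      Subgroup.subgroupOf_map_subtype T (M i)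
    have htop := Sylow.normalizer_sup_eq_top R
    rw [hRQ] at htop
    have hle : Subgroup.normalizer ((T ⊓ M i : Subgroup G) : Set G) ≤ H := fun g hg =>
      hnorm g fun z hz => hC _ (hTmem _ (e_supp (i + 1)).2.1)
        (fun h => (e_supp (i + 1)).2.2 (hfi (h.trans (map_one f).symm))) (by
          have hm : g⁻¹ * f (e (i + 1)) * g ∈ T ⊓ M i :=
            (Subgroup.mem_normalizer_iff''.mp hg (f (e (i + 1)))).mp
              ⟨hTmem _ (e_supp (i + 1)).2.1, heM i _ hne1⟩
          rw [Subgroup.mem_centralizer_singleton_iff]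
          have h2 := hTcomm z hz _ hm.1
          calc g * z * g⁻¹ * f (e (i + 1))
              = g * (z * (g⁻¹ * f (e (i + 1)) * g)) * g⁻¹ := by group
            _ = g * ((g⁻¹ * f (e (i + 1)) * g) * z) * g⁻¹ := by rw [h2]
            _ = f (e (i + 1)) * (g * z * g⁻¹) := by group)
    have htop' : H ⊔ M i = ⊤ := top_le_iff.mp (htop ▸ sup_le_sup_right hle _)
    have hrel : (M i).index = ((M i).comap f).index := by
      rw [Subgroup.index_comap, hfrange, ← Subgroup.relIndex_top_right, ← htop',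
        Subgroup.relIndex_sup_right]
    have h18 : 18 ≤ Nat.card ((M i).comap f) := by
      let j : Fin 3 × Fin 3 × Fin 2 → (M i).comap f := fun x =>
        ⟨e (i + 1) ^ x.1.val * e (i + 2) ^ x.2.1.val * u i ^ x.2.2.val,
          mul_mem (mul_mem (pow_mem (Subgroup.mem_comap.mpr (heM i _ hne1)) _)
            (pow_mem (Subgroup.mem_comap.mpr (heM i _ hne2)) _))
            (pow_mem (Subgroup.mem_comap.mpr (huM i)) _)⟩
      have hj : Function.Injective j := fun x y h => by
        have h' := congrArg Subtype.val h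
        have : ∀ i, ∀ x y : Fin 3 × Fin 3 × Fin 2,
            e (i + 1) ^ x.1.val * e (i + 2) ^ x.2.1.val * u i ^ x.2.2.val =
            e (i + 1) ^ y.1.val * e (i + 2) ^ y.2.1.val * u i ^ y.2.2.val → x = y := by
          decide +kernel
        exact this i x y h'
      simpa [Nat.card_eq_fintype_card] using Nat.card_le_card_of_injective j hj
    have hmul := Subgroup.card_mul_index ((M i).comap f)
    rw [Nat.card_eq_fintype_card (α := K), card_K] at hmul
    rw [hrel]
    nlinarith
  -- their intersection is trivial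
  set N := M 0 ⊓ M 1 ⊓ M 2
  have hNT : ∀ x ∈ T, x ∈ N → x = 1 := by
    intro x hx hxN
    obtain ⟨k, rfl, hk⟩ := hTsub x hx
    rw [comp_zero k (fun i => hMT i k hk (by
      fin_cases i
      exacts [hxN.1.1, hxN.1.2, hxN.2])), map_one]
  have hN3 : ¬ 3 ∣ Nat.card N := by
    intro h
    obtain ⟨x, hx⟩ := exists_prime_orderOf_dvd_card' 3 h
    have hx3 : orderOf (x : G) = 3 := by rw [Subgroup.orderOf_coe, hx]
    obtain ⟨S, hS⟩ := (IsPGroup.of_card (n := 1) (show Nat.card (Subgroup.zpowers (x : G)) = 3 ^ 1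
      by rw [Nat.card_zpowers, hx3, pow_one])).exists_le_sylow
    obtain ⟨g, hg⟩ := MulAction.exists_smul_eq G S P
    have h1 : g * x * g⁻¹ ∈ T := by
      rw [← hPT, ← hg]
      exact ⟨x, hS (Subgroup.mem_zpowers _), rfl⟩
    have h2 : g * x * g⁻¹ = 1 := hNT _ h1 ((inferInstance : N.Normal).conj_mem _ x.2 g)
    rw [conj_eq_one_iff] at h2
    rw [h2, orderOf_one] at hx3
    norm_num at hx3
  have hcomm : IsMulCommutative T := ⟨⟨fun a b => Subtype.ext (hTcomm _ a.2 _ b.2)⟩⟩
  have hcyc : ¬ IsCyclic T := by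
    intro hc
    obtain ⟨x, hx⟩ := hc.exists_generator
    have h27 : orderOf x = 27 := (orderOf_eq_card_of_forall_mem_zpowers hx).trans hT
    obtain ⟨k, hk, hk3⟩ := hTsub x x.2
    have : x ^ 3 = 1 := Subtype.ext (by
      rw [Subgroup.coe_pow, ← hk, ← map_pow, hk3, map_one]; rfl)
    have := orderOf_dvd_of_pow_eq_one this
    rw [h27] at this
    norm_num at this
  have hNH : N ≤ H := by
    refine Coprime.le_of_centralizer_le T N H hcyc
      (fun x _ => by rw [Subgroup.normalizer_eq_top]; trivial) ?_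
      fun t ht ht1 => inf_le_right.trans (hC t ht ht1)
    rw [hT, show (27 : ℕ) = 3 ^ 3 by norm_num]
    exact ((Nat.prime_three.coprime_iff_not_dvd).mpr hN3).pow_left 3
  have hN1 : N = ⊥ := by
    refine (Subgroup.eq_bot_iff_forall _).mpr fun x hx => ?_
    obtain ⟨k, rfl⟩ := hfs x (hNH hx)
    have hcent : ∀ l : K, l ^ 3 = 1 → k * l * k⁻¹ * l⁻¹ = 1 := by
      intro l hl
      refine hfi ?_
      rw [map_one]
      refine hNT _ (hTmem _ ?_) ?_
      · revert hl
        have : ∀ k l : K, l ^ 3 = 1 → (k * l * k⁻¹ * l⁻¹) ^ 3 = 1 := by decide +kernel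
        exact this k l
      · rw [map_mul, map_mul, map_mul, map_inv, map_inv, mul_assoc (f k), mul_assoc (f k)]
        exact mul_mem hx ((inferInstance : N.Normal).conj_mem _ (inv_mem hx) _)
    have : ∀ k : K, (∀ i, k * e i * k⁻¹ * (e i)⁻¹ = 1) → k ^ 3 = 1 := by decide +kernel
    exact hNT _ (hTmem k (this k fun i => hcent _ (e_supp i).2.1)) hx
  have hG : Nat.card G ≤ 216 := by
    rw [← Subgroup.index_bot, ← hN1]
    calc N.index ≤ (M 0 ⊓ M 1).index * (M 2).index := Subgroup.index_inf_le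
      _ ≤ ((M 0).index * (M 1).index) * (M 2).index := by
          exact Nat.mul_le_mul_right _ Subgroup.index_inf_le
      _ ≤ 6 * 6 * 6 := Nat.mul_le_mul (Nat.mul_le_mul (hidx 0) (hidx 1)) (hidx 2)
  have hHn : H.Normal := by
    have h1 := Subgroup.card_mul_index H
    rw [hcardH] at h1
    have h2 : H.index ≤ 2 := by omega
    have h3 : H.index ≠ 0 := Subgroup.index_ne_zero_of_finite
    obtain h | h : H.index = 1 ∨ H.index = 2 := by omega
    · exact Subgroup.normal_of_index_eq_one h
    · exact Subgroup.normal_of_index_eq_two h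
  exact top_le_iff.mp fun g _ => hnorm g fun x hx => hHn.conj_mem x (hTH hx) g

end Cfsg.Agent.H40.Exceptional.Cube
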