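import Mathlib
import Cfsg.Prelude

/-!
The group `{k ∈ S₃³ : product of the signs = 1}` with the functions used on it.
-/

set_option autoImplicit false

namespace Cfsg.Agent.H40.Exceptional.Cube

open DihedralGroup

abbrev S := DihedralGroup 3

/-- The sign. -/
def sg : S → ℤ
  | r _ => 1
  | sr _ => -1

/-- `2 + sign - (number of fixed points)`. -/
def a : S → ℤ
  | r i => if i = 0 then 0 else 3
  | sr _ => 0

theorem sg_mul : ∀ x y : S, sg (x * y) = sg x * sg y := by decide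
theorem sg_inv : ∀ x : S, sg x⁻¹ = sg x := by decide

/-- The model. -/
def K : Subgroup (Fin 3 → S) where
  carrier := {k | sg (k 0) * sg (k 1) * sg (k 2) = 1}
  mul_mem' := by
    intro x y hx hy
    simp only [Set.mem_setOf_eq, Pi.mul_apply, sg_mul] at *
    linear_combination (sg (y 0) * sg (y 1) * sg (y 2)) * hx + hy
  one_mem' := by decide
  inv_mem' := by
    intro x hx
    simpa only [Set.mem_setOf_eq, Pi.inv_apply, sg_inv] using hx

instance : DecidablePred (· ∈ K) := fun k =>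
  inferInstanceAs (Decidable (sg (k 0) * sg (k 1) * sg (k 2) = 1))

/-- The three-cycle in coordinate `i`. -/
def e : Fin 3 → K :=
  ![⟨![r 1, r 0, r 0], by decide⟩, ⟨![r 0, r 1, r 0], by decide⟩, ⟨![r 0, r 0, r 1], by decide⟩]

/-- The involution flipping the coordinates other than `i`. -/
def u : Fin 3 → K :=
  ![⟨![r 0, sr 2, sr 2], by decide⟩, ⟨![sr 2, r 0, sr 2], by decide⟩,
    ⟨![sr 2, sr 2, r 0], by decide⟩]

def w₁ : K := ⟨![sr 2, sr 2, r 0], by decide⟩
def w₂ : K := ⟨![sr 2, r 0, sr 2], by decide⟩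

/-- The norm three function. -/
def α (i : Fin 3) (k : K) : ℤ := a (k.1 i)

/-- The norm six function. -/
def δ (i : Fin 3) (k : K) : ℤ := a (k.1 i) * (1 - sg (k.1 (i + 1)))

theorem card_K : Fintype.card K = 108 := by decide +kernel
theorem alpha_norm : ∀ i, ∑ k : K, α i k * α i k = 324 := by decide +kernel
theorem alpha_sum : ∀ i, ∑ k : K, α i k = 108 := by decide +kernel
theorem delta_norm : ∀ i j, ∑ k : K, δ i k * δ j k = if i = j then 648 else 0 := by decide +kernel
theorem delta_sum : ∀ i, ∑ k : K, δ i k = 108 := by decide +kernel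

theorem delta_class : ∀ (i : Fin 3) (k : K), δ i k ≠ 0 →
    ∃ g : K, g * (e i * u i) * g⁻¹ = k := by decide +kernel

theorem invol_class : ∀ k : K, k * k = 1 → k ≠ 1 →
    ∃ i : Fin 3, ∃ g : K, g * u i * g⁻¹ = k := by decide +kernel

theorem alpha_eq : ∀ i (k : K), k.1 i = 1 → α i k = 0 := by decide +kernel
theorem u_comp : ∀ i, (u i).1 i = 1 := by decide
theorem u_sq : ∀ i, u i * u i = 1 := by decide +kernel
theorem u_ne : ∀ i, u i ≠ 1 := by decide +kernel
theorem alpha_one : ∀ i, α i 1 = 0 := by decide +kernel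
theorem alpha_supp : ∀ i (k : K), k ^ 2 = 1 → α i k = 0 := by decide +kernel
theorem delta_supp : ∀ i (k : K), k ^ 2 = 1 → δ i k = 0 := by decide +kernel
theorem c_pow : ∀ i, (e i * u i) ^ 6 = 1 ∧ (e i * u i) ^ 3 = u i := by decide +kernel
theorem c_real : ∀ i, ∃ g : K, g * (e i * u i) * g⁻¹ = (e i * u i)⁻¹ := by decide +kernel
theorem comm_eu : ∀ i j, i ≠ j → u i * e j * (u i)⁻¹ * (e j)⁻¹ = e j := by decide +kernel
theorem alpha_e : ∀ i, α i (e i) = 3 := by decide +kernel
theorem e_supp : ∀ i, e i ^ 2 ≠ 1 ∧ e i ^ 3 = 1 ∧ e i ≠ 1 := by decide +kernel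
theorem three_iff : ∀ k : K, k ^ 27 = 1 → k ^ 3 = 1 := by decide +kernel
theorem sq_cube : ∀ k : K, (k ^ 2) ^ 3 = 1 := by decide +kernel
theorem card_cube : Fintype.card {k : K // k ^ 3 = 1} = 27 := by decide +kernel
theorem alpha_cube : ∀ i (k : K), k ^ 3 = 1 → α i k = 0 → k.1 i = 1 := by decide +kernel
theorem comp_zero : ∀ k : K, (∀ i, k.1 i = 1) → k = 1 := by decide +kernel
theorem cube_decomp : ∀ i (k : K), k ^ 3 = 1 → k.1 i = 1 →
    ∃ a b : Fin 3, k = e (i + 1) ^ a.val * e (i + 2) ^ b.val := by decide +kernel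
theorem e_ne_cube : ∀ i, ∀ a b : Fin 3, (e i) ≠ e (i + 1) ^ a.val * e (i + 2) ^ b.val := by
  decide +kernel
theorem gen : ∀ k : K, ∃ (x y z : Fin 3) (v w : Fin 2),
    k = e 0 ^ x.val * e 1 ^ y.val * e 2 ^ z.val * w₁ ^ v.val * w₂ ^ w.val := by decide +kernel

/-- `S` acting on three points. -/
def perm : S →* Equiv.Perm (Fin 3) where
  toFun
    | r i => Equiv.addRight (i : Fin 3)
    | sr i => Equiv.subLeft ((-i : ZMod 3) : Fin 3)
  map_one' := by decide +kernel
  map_mul' := by decide +kernel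

theorem perm_injective : Function.Injective perm := by decide +kernel

theorem a_eq : ∀ x : S, a x = 2 + ((Equiv.Perm.sign (perm x) : ℤˣ) : ℤ) -
    (Fintype.card {p : Fin 3 // perm x p = p} : ℤ) := by decide +kernel

theorem sg_eq : ∀ x : S, sg x = ((Equiv.Perm.sign (perm x) : ℤˣ) : ℤ) := by decide +kernel

/-- The model as permutations of nine points. -/
def toPerm : K →* Equiv.Perm (Fin 9) :=
  (((Equiv.sigmaEquivProd (Fin 3) (Fin 3)).trans finProdFinEquiv).permCongrHom.toMonoidHom.comp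
    (Equiv.Perm.sigmaCongrRightHom fun _ : Fin 3 => Fin 3)).comp
    ((Pi.monoidHom fun i => perm.comp (Pi.evalMonoidHom (fun _ : Fin 3 => S) i)).comp K.subtype)

theorem toPerm_gens :
    toPerm (e 0) = Equiv.swap (0 : Fin 9) 1 * Equiv.swap 1 2 ∧
    toPerm (e 1) = Equiv.swap (3 : Fin 9) 4 * Equiv.swap 4 5 ∧
    toPerm (e 2) = Equiv.swap (6 : Fin 9) 7 * Equiv.swap 7 8 ∧
    toPerm w₁ = Equiv.swap (0 : Fin 9) 1 * Equiv.swap 3 4 ∧
    toPerm w₂ = Equiv.swap (0 : Fin 9) 1 * Equiv.swap 6 7 := by decide +kernel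

end Cfsg.Agent.H40.Exceptional.Cube
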