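import Cfsg.Agent.H40.Exceptional.Basic

/-!
The class algebra of two involution classes evaluated on an exceptional class function.
-/

set_option autoImplicit false

open scoped ComplexConjugate

namespace Cfsg.Agent.H40.Exceptional

universe u

variable {G : Type u} [Group G] [Fintype G] {H : Subgroup G} {D : Set G}

/-- The class algebra relation between two classes of involutions. -/
theorem sum_coeff_pairs (hs : Special H D) [Fintype H] {α : H → ℂ} (hαD : SuppOn H D α)
    {u v : G} (hu : u * u = 1) (hv : v * v = 1) :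
    ∑ χ : Cfsg.IrrCharacter G, Cfsg.classInner (Cfsg.indFun H α) χ *
      ((Nat.card {x : G // IsConj u x} : ℂ) * (Nat.card {x : G // IsConj v x} : ℂ) *
        (χ : G → ℂ) u * (χ : G → ℂ) v / (χ : G → ℂ) 1) =
      (Nat.card G : ℂ) / (Nat.card H : ℂ) *
        ∑ s : H, ∑ t : H, BlocksCore.classInd u (s : G) * BlocksCore.classInd v (t : G) * α (s * t) := by
  classical
  have hexp : ∀ z : G, Cfsg.indFun H α z =
      ∑ χ : Cfsg.IrrCharacter G, Cfsg.classInner (Cfsg.indFun H α) χ * (χ : G → ℂ) z := fun z => by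
    conv_lhs => rw [CharCore.eq_sum_classInner (CharInd.isClassFunction_indFun H α)]
    simp [Finset.sum_apply, smul_eq_mul]
  have h1 : ∑ x : G, ∑ y : G, BlocksCore.classInd u x * BlocksCore.classInd v y *
      Cfsg.indFun H α (x * y) =
      ∑ χ : Cfsg.IrrCharacter G, Cfsg.classInner (Cfsg.indFun H α) χ *
        ((Nat.card {x : G // IsConj u x} : ℂ) * (Nat.card {x : G // IsConj v x} : ℂ) *
          (χ : G → ℂ) u * (χ : G → ℂ) v / (χ : G → ℂ) 1) := by
    simp only [hexp, Finset.mul_sum]
    rw [Finset.sum_congr rfl (fun x _ => Finset.sum_comm), Finset.sum_comm]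
    refine Finset.sum_congr rfl fun χ _ => ?_
    rw [← CharDeep.sum_pairs_char]
    simp only [Finset.mul_sum]
    exact Finset.sum_congr rfl fun x _ => Finset.sum_congr rfl fun y _ => by ring
  rw [← h1]
  have hinv : ∀ {a : G}, a * a = 1 → ∀ (g x : G),
      BlocksCore.classInd a (g⁻¹ * x * g) = BlocksCore.classInd a x := by
    intro a _ g x
    have hiff : IsConj x (g⁻¹ * x * g) := isConj_iff.mpr ⟨g⁻¹, by group⟩
    by_cases h : IsConj a x
    · rw [BlocksCore.classInd_apply_of_isConj h,
        BlocksCore.classInd_apply_of_isConj (h.trans hiff)]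
    · rw [BlocksCore.classInd_apply_of_not_isConj h,
        BlocksCore.classInd_apply_of_not_isConj fun h' => h (h'.trans hiff.symm)]
  set S : ℂ := ∑ x : G, ∑ y : G, BlocksCore.classInd u x * BlocksCore.classInd v y *
    Cfsg.extendByZero H α (x * y)
  have h2 : ∑ x : G, ∑ y : G, BlocksCore.classInd u x * BlocksCore.classInd v y *
      Cfsg.indFun H α (x * y) = (Nat.card G : ℂ) / (Nat.card H : ℂ) * S := by
    simp only [CharInd.indFun_apply, Finset.mul_sum]
    rw [Finset.sum_congr rfl (fun x _ => Finset.sum_comm), Finset.sum_comm]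
    have hg : ∀ g : G, ∑ x : G, ∑ y : G, BlocksCore.classInd u x * BlocksCore.classInd v y *
        ((Nat.card H : ℂ)⁻¹ * Cfsg.extendByZero H α (g⁻¹ * (x * y) * g)) =
        (Nat.card H : ℂ)⁻¹ * S := by
      intro g
      simp only [S, Finset.mul_sum]
      refine Fintype.sum_equiv (MulAut.conj g⁻¹).toEquiv _ _ fun x => ?_
      refine Fintype.sum_equiv (MulAut.conj g⁻¹).toEquiv _ _ fun y => ?_
      simp only [MulEquiv.toEquiv_eq_coe, MulEquiv.coe_toEquiv, MulAut.conj_apply, inv_inv]
      rw [hinv hu, hinv hv, show g⁻¹ * x * g * (g⁻¹ * y * g) = g⁻¹ * (x * y) * g by group]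
      ring
    rw [Finset.sum_congr rfl fun g _ => hg g, Finset.sum_const, Finset.card_univ, nsmul_eq_mul,
      Nat.card_eq_fintype_card (α := G)]
    simp only [S, Finset.mul_sum]
    exact Finset.sum_congr rfl fun x _ => Finset.sum_congr rfl fun y _ => by ring
  rw [h2]
  congr 1
  have hsupp : ∀ x y : G, BlocksCore.classInd u x * BlocksCore.classInd v y *
      Cfsg.extendByZero H α (x * y) ≠ 0 → x ∈ H ∧ y ∈ H := by
    intro x y hne
    have hx : IsConj u x := by
      by_contra h
      exact hne (by rw [BlocksCore.classInd_apply_of_not_isConj h, zero_mul, zero_mul])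
    have hy : IsConj v y := by
      by_contra h
      exact hne (by rw [BlocksCore.classInd_apply_of_not_isConj h, mul_zero, zero_mul])
    have hm : x * y ∈ H := by
      by_contra hm
      exact hne (by rw [CharInd.extendByZero_notMem α hm, mul_zero])
    have hD : x * y ∈ D := by
      by_contra hD
      exact hne (by rw [CharInd.extendByZero_mem α hm, hαD ⟨_, hm⟩ hD, mul_zero])
    have hsq : ∀ {a z : G}, a * a = 1 → IsConj a z → z * z = 1 := by
      intro a z ha hz
      obtain ⟨c, rfl⟩ := isConj_iff.mp hz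
      rw [show c * a * c⁻¹ * (c * a * c⁻¹) = c * (a * a) * c⁻¹ by group, ha, mul_one,
        mul_inv_cancel]
    have hxH : x ∈ H := hs.fus _ hD x (by
      have e : x * (x * y) * x⁻¹ = (x * y)⁻¹ := by
        rw [← mul_assoc, hsq hu hx, one_mul, mul_inv_rev, inv_eq_of_mul_eq_one_right (hsq hu hx),
          inv_eq_of_mul_eq_one_right (hsq hv hy)]
      rw [e]; exact hs.inv _ hD)
    refine ⟨hxH, ?_⟩
    have := mul_mem (inv_mem hxH) hm
    rwa [inv_mul_cancel_left] at this
  simp only [S]
  have hres : ∀ f : G → ℂ, (∀ x, f x ≠ 0 → x ∈ H) → ∑ x : G, f x = ∑ s : H, f s := by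
    intro f hf
    rw [← Finset.sum_filter_of_ne (p := fun x => x ∈ H) (fun x _ h => hf x h)]
    exact Finset.sum_subtype _ (fun x => by simp) f
  rw [hres _ (fun x hx => by
    obtain ⟨y, -, hy⟩ := Finset.exists_ne_zero_of_sum_ne_zero hx
    exact (hsupp x y hy).1)]
  refine Finset.sum_congr rfl fun s _ => ?_
  rw [hres _ (fun y hy => (hsupp _ y hy).2)]
  refine Finset.sum_congr rfl fun t _ => ?_
  rw [show (s : G) * (t : G) = ((s * t : H) : G) from rfl, CharInd.extendByZero_coe]

end Cfsg.Agent.H40.Exceptional
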